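import Cfsg.Agent.H106.RC.Cover
import Cfsg.Agent.H393.RC.OrbitCount
import Cfsg.Agent.H777.PGrp

/-!
# Regular cycles (S3509): general rules for the sporadic block (helper867)

`Env G Ω N`, a cover `x : ι → G` by commuting elements of different prime orders (`PF x r`, `Cov Ω x`).

* `Cm Q x` : the group generated by the `u x u⁻¹ x⁻¹`, `u ∈ Q`; `mem_cm` : it contains the minimal normal subgroup `⟨z⟩`
  of a `p`-group `Q` with `Ω₁(Z(Q)) = ⟨z⟩`, if `x` normalises and does not centralise `Q`;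
* **`ruleA`** : `Q` a `p`-group normalised by all `x i`, `z ∈ Q` central in `Q` and in all `Cm Q (x i)` with `r i ≠ p`; the
  `p`-element of the cover, if any, is in `⟨z⟩`: contradiction (any number of primes);
* `ruleA'` : the same with `Ω₁(Z(Q)) = ⟨z⟩`;
* `card_fix_le` : at most `|C_N(x)|` fixed points in an `N`-orbit; **`ruleCB`** : `∑ |C_N(x i)| < |N : N_ω|`: contradiction;
* `rulePair` : a cover by two elements `x, y` with `x` in the normal closure of `y` in `C_G(x)`: contradiction.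
-/

set_option autoImplicit false
open Cfsg

namespace Cfsg.Agent.H867.RC

open MulAction Subgroup Cfsg.Agent.H106.RC

section Comm

variable {G : Type*} [Group G]

/-- the group generated by the commutators of `x` with the elements of `Q` -/
def Cm (Q : Subgroup G) (x : G) : Subgroup G := closure {y | ∃ u ∈ Q, y = u * x * u⁻¹ * x⁻¹}

variable {Q : Subgroup G} {x : G}

theorem cm_gen {u : G} (hu : u ∈ Q) : u * x * u⁻¹ * x⁻¹ ∈ Cm Q x := subset_closure ⟨u, hu, rfl⟩

theorem cm_le (hn : x ∈ normalizer (Q : Set G)) : Cm Q x ≤ Q := by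
  rw [Cm, closure_le]
  rintro _ ⟨u, hu, rfl⟩
  have h1 : x * u⁻¹ * x⁻¹ ∈ Q := (mem_normalizer_iff.1 hn u⁻¹).1 (inv_mem hu)
  have e : u * x * u⁻¹ * x⁻¹ = u * (x * u⁻¹ * x⁻¹) := by group
  rw [e]
  exact mul_mem hu h1

theorem cm_conj {v : G} (hv : v ∈ Q) {y : G} (hy : y ∈ Cm Q x) : v * y * v⁻¹ ∈ Cm Q x := by
  unfold Cm at hy
  refine closure_induction (p := fun y _ => v * y * v⁻¹ ∈ Cm Q x) ?_ ?_ ?_ ?_ hy
  · rintro _ ⟨u, hu, rfl⟩
    have e : v * (u * x * u⁻¹ * x⁻¹) * v⁻¹ = ((v * u) * x * (v * u)⁻¹ * x⁻¹) * (v * x * v⁻¹ * x⁻¹)⁻¹ := by group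
    rw [e]
    exact mul_mem (cm_gen (mul_mem hv hu)) (inv_mem (cm_gen hv))
  · simp [one_mem]
  · intro a b _ _ ha hb
    have e : v * (a * b) * v⁻¹ = (v * a * v⁻¹) * (v * b * v⁻¹) := by group
    rw [e]
    exact mul_mem ha hb
  · intro a _ ha
    have e : v * a⁻¹ * v⁻¹ = (v * a * v⁻¹)⁻¹ := by group
    rw [e]
    exact inv_mem ha

/-- the minimal normal subgroup of `Q` is in `[Q, x]` -/
theorem mem_cm {p : ℕ} (hp : p.Prime) [Finite Q] (hQ : IsPGroup p Q) {z : G}
    (hz : ∀ c ∈ Q, (∀ u ∈ Q, u * c = c * u) → c ^ p = 1 → c ≠ 1 → z ∈ zpowers c)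
    (hn : x ∈ normalizer (Q : Set G)) (hx : ∃ u ∈ Q, u * x ≠ x * u) : z ∈ Cm Q x := by
  have : Fact p.Prime := ⟨hp⟩
  obtain ⟨u, hu, hux⟩ := hx
  set K : Subgroup Q := (Cm Q x).subgroupOf Q with hK
  have hKn : K.Normal := by
    constructor
    rintro ⟨y, hy⟩ hyK ⟨v, hv⟩
    exact cm_conj hv hyK
  have hK1 : K ≠ ⊥ := by
    intro h
    apply hux
    have h1 : (⟨u * x * u⁻¹ * x⁻¹, cm_le hn (cm_gen hu)⟩ : Q) ∈ K := cm_gen hu
    rw [h, mem_bot] at h1
    have h2 : u * x * u⁻¹ * x⁻¹ = 1 := congrArg Subtype.val h1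
    calc u * x = (u * x * u⁻¹ * x⁻¹) * (x * u) := by group
      _ = x * u := by rw [h2, one_mul]
  obtain ⟨c, hcK, hcc, hcZ⟩ := Cfsg.Agent.H777.PGrp.inf_center_ne_bot hQ hK1 hKn
  obtain ⟨k, hk⟩ := (IsPGroup.iff_orderOf.1 hQ) c
  have hk0 : k ≠ 0 := by
    rintro rfl
    rw [pow_zero] at hk
    exact hcc (orderOf_eq_one_iff.1 hk)
  obtain ⟨m, rfl⟩ : ∃ m, k = m + 1 := ⟨k - 1, by omega⟩
  have hd : (c ^ p ^ m) ^ p = 1 := by rw [← pow_mul, ← pow_succ, ← hk, pow_orderOf_eq_one]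
  have hd1 : c ^ p ^ m ≠ 1 := by
    intro h
    have h3 := orderOf_dvd_of_pow_eq_one h
    rw [hk] at h3
    have h4 := (Nat.pow_dvd_pow_iff_le_right hp.one_lt).1 h3
    omega
  have h5 : z ∈ zpowers ((c ^ p ^ m : Q) : G) := by
    refine hz _ (c ^ p ^ m).2 (fun v hv => ?_) (by rw [← coe_pow, hd, coe_one]) fun h => hd1 (Subtype.ext h)
    have h6 : (⟨v, hv⟩ : Q) * c ^ p ^ m = c ^ p ^ m * ⟨v, hv⟩ := ((show Commute (⟨v, hv⟩ : Q) c from hcZ _).pow_right _).eq
    exact congrArg Subtype.val h6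
  have h7 : ((c ^ p ^ m : Q) : G) ∈ Cm Q x := (pow_mem hcK (p ^ m) : c ^ p ^ m ∈ K)
  exact (zpowers_le.2 h7) h5

end Comm

section Rules

variable {G Ω ι : Type*} [Group G] [MulAction G Ω] {N : Subgroup G}

/-- **rule A** -/
theorem ruleA [Nonempty Ω] [Finite ι] (hE : Env G Ω N) {x : ι → G} {r : ι → ℕ} (hx : PF x r) (hc : Cov Ω x) {p : ℕ}
    (hp : p.Prime) (Q : Subgroup G) [Finite Q] (hQ : IsPGroup p Q) (hn : ∀ i, x i ∈ normalizer (Q : Set G)) {z : G}
    (hz1 : z ≠ 1) (hzQ : ∀ u ∈ Q, u * z = z * u) (h1 : ∀ i, r i ≠ p → z ∈ Cm Q (x i))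
    (h2 : ∀ i, r i = p → z ∈ zpowers (x i)) : False := by
  apply hz1
  refine hE.single fun ω => ?_
  by_contra hω
  have horb : ∀ w' ∈ orbit Q ω, z • w' ≠ w' := by
    rintro _ ⟨⟨u, hu⟩, rfl⟩ h
    apply hω
    change z • u • ω = u • ω at h
    rw [smul_smul, ← hzQ u hu, mul_smul] at h
    exact smul_left_cancel u h
  let κ := {i : ι // r i ≠ p}
  obtain ⟨i, hi⟩ := Cfsg.Agent.H393.RC.exists_trivial (ι := κ) (fun i => x i.1) (fun i => r i.1) (fun i => hx.prime i.1)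
    (fun a b hab => Subtype.ext (hx.inj hab)) (fun i => hx.pow i.1) hp Q hQ (fun i => hn i.1)
    (fun i hi => absurd hi i.2) ω (fun w' hw' => by
      obtain ⟨i, hi⟩ := hc w'
      by_cases hr : r i = p
      · exact absurd ((zpowers_le.2 (show x i ∈ stabilizer G w' from hi)) (h2 i hr)) (horb w' hw')
      · exact ⟨⟨i, hr⟩, hi⟩)
  apply hω
  have h3 : Cm Q (x i.1) ≤ stabilizer G ω := by
    rw [Cm, closure_le]
    rintro _ ⟨u, hu, rfl⟩
    have h0 : x i.1 • ω = ω := hi ω (mem_orbit_self ω)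
    have h4 := hi ((u⁻¹ : G) • ω) ⟨⟨u⁻¹, inv_mem hu⟩, rfl⟩
    have h5 : u * x i.1 * u⁻¹ ∈ stabilizer G ω := by
      rw [mem_stabilizer_iff, mul_smul, mul_smul, h4, smul_inv_smul]
    exact mul_mem h5 (inv_mem (show x i.1 ∈ stabilizer G ω from h0))
  exact h3 (h1 i.1 i.2)

/-- **rule A** with `Ω₁(Z(Q)) = ⟨z⟩` -/
theorem ruleA' [Nonempty Ω] [Finite ι] (hE : Env G Ω N) {x : ι → G} {r : ι → ℕ} (hx : PF x r) (hc : Cov Ω x) {p : ℕ}
    (hp : p.Prime) (Q : Subgroup G) [Finite Q] (hQ : IsPGroup p Q) (hn : ∀ i, x i ∈ normalizer (Q : Set G)) {z : G}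
    (hz1 : z ≠ 1) (hzQ : ∀ u ∈ Q, u * z = z * u)
    (hz : ∀ c ∈ Q, (∀ u ∈ Q, u * c = c * u) → c ^ p = 1 → c ≠ 1 → z ∈ zpowers c)
    (h1 : ∀ i, r i ≠ p → ∃ u ∈ Q, u * x i ≠ x i * u) (h2 : ∀ i, r i = p → z ∈ zpowers (x i)) : False :=
  ruleA hE hx hc hp Q hQ hn hz1 hzQ (fun i hi => mem_cm hp hQ hz (hn i) (h1 i hi)) h2

/-- at most `|C_N(x)|` fixed points in an orbit of `N` -/
theorem card_fix_le [Finite G] (x : G) (ω : Ω) (hN : x ∈ normalizer (N : Set G)) :
    Nat.card {w : Ω // w ∈ orbit N ω ∧ x • w = w} ≤ Nat.card ↥(N ⊓ centralizer ({x} : Set G)) := by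
  classical
  by_cases hne : ∃ w₀ ∈ orbit N ω, x • w₀ = w₀
  swap
  · have : IsEmpty {w : Ω // w ∈ orbit N ω ∧ x • w = w} := ⟨fun w => hne ⟨w.1, w.2.1, w.2.2⟩⟩
    rw [Nat.card_of_isEmpty]
    exact Nat.zero_le _
  obtain ⟨w₀, hw₀, hx₀⟩ := hne
  have horb : orbit N w₀ = orbit N ω := orbit_eq_iff.2 hw₀
  rw [← horb]
  -- the elements of `N` moving `w₀` to a fixed point
  let P := {n : N // x • (n : G) • w₀ = (n : G) • w₀}
  let F := {w : Ω // w ∈ orbit N w₀ ∧ x • w = w}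
  have hPf : Finite P := inferInstance
  have hFf : Finite F := Set.Finite.to_subtype ((Set.finite_range fun n : N => n • w₀).subset fun w hw => hw.1)
  -- first map: onto `F`, fibres of size `|N_{w₀}|`
  have h1 : Nat.card P = Nat.card F * Nat.card (stabilizer N w₀) := by
    choose f hf using fun w : F => w.2.1
    have e : P ≃ F × stabilizer N w₀ :=
      { toFun := fun n => ⟨⟨(n.1 : G) • w₀, ⟨n.1, rfl⟩, n.2⟩, ⟨(f ⟨(n.1 : G) • w₀, ⟨n.1, rfl⟩, n.2⟩)⁻¹ * n.1, by
          rw [mem_stabilizer_iff, mul_smul, inv_smul_eq_iff]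
          exact (hf ⟨(n.1 : G) • w₀, ⟨n.1, rfl⟩, n.2⟩).symm⟩⟩
        invFun := fun q => ⟨f q.1 * q.2.1, by
          have h2 : ((f q.1 * q.2.1 : N) : G) • w₀ = q.1.1 := by
            change (f q.1 * q.2.1) • w₀ = q.1.1
            rw [mul_smul, mem_stabilizer_iff.1 q.2.2]
            exact hf q.1
          rw [h2]
          exact q.1.2.2⟩
        left_inv := fun n => by
          apply Subtype.ext
          simp
        right_inv := fun q => by
          have h2 : ((f q.1 * q.2.1 : N) : G) • w₀ = q.1.1 := by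
            change (f q.1 * q.2.1) • w₀ = q.1.1
            rw [mul_smul, mem_stabilizer_iff.1 q.2.2]
            exact hf q.1
          have h3 : (⟨((f q.1 * q.2.1 : N) : G) • w₀, ⟨f q.1 * q.2.1, rfl⟩, by rw [h2]; exact q.1.2.2⟩ : F) = q.1 :=
            Subtype.ext h2
          have key : ∀ q' : F, q' = q.1 → (f q')⁻¹ * (f q.1 * q.2.1) = q.2.1 := by
            rintro _ rfl
            exact inv_mul_cancel_left _ _
          exact Prod.ext h3 (Subtype.ext (key _ h3)) }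
    rw [Nat.card_congr e, Nat.card_prod]
  -- second map: `n ↦ n⁻¹ x n x⁻¹`, fibres of size at most `|C_N(x)|`
  have h2 : Nat.card P ≤ Nat.card ↥(N ⊓ centralizer ({x} : Set G)) * Nat.card (stabilizer N w₀) := by
    let φ : P → stabilizer N w₀ := fun n => ⟨⟨(n.1 : G)⁻¹ * (x * n.1 * x⁻¹), mul_mem (inv_mem n.1.2)
      ((mem_normalizer_iff.1 hN n.1).1 n.1.2)⟩, by
        change ((n.1 : G)⁻¹ * (x * n.1 * x⁻¹)) • w₀ = w₀
        have h3 : x⁻¹ • w₀ = w₀ := by rw [inv_smul_eq_iff, hx₀]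
        rw [mul_smul, mul_smul, h3, mul_smul, n.2, inv_smul_smul]⟩
    have hfib : ∀ t : stabilizer N w₀, Nat.card {n : P // φ n = t} ≤ Nat.card ↥(N ⊓ centralizer ({x} : Set G)) := by
      intro t
      by_cases ht : ∃ n : P, φ n = t
      swap
      · have : IsEmpty {n : P // φ n = t} := ⟨fun n => ht ⟨n.1, n.2⟩⟩
        rw [Nat.card_of_isEmpty]
        exact Nat.zero_le _
      obtain ⟨n₀, hn₀⟩ := ht
      refine Nat.card_le_card_of_injective (fun n : {n : P // φ n = t} =>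
        (⟨(n.1.1 : G) * (n₀.1 : G)⁻¹, mem_inf.2 ⟨mul_mem n.1.1.2 (inv_mem n₀.1.2), ?_⟩⟩ :
          ↥(N ⊓ centralizer ({x} : Set G)))) ?_
      · rw [mem_centralizer_singleton_iff]
        have h4 : (n.1.1 : G)⁻¹ * (x * n.1.1 * x⁻¹) = (n₀.1 : G)⁻¹ * (x * n₀.1 * x⁻¹) := by
          have := n.2.trans hn₀.symm
          exact congrArg (fun t : stabilizer N w₀ => ((t : N) : G)) this
        have h5 : x * n.1.1 * x⁻¹ = n.1.1 * ((n₀.1 : G)⁻¹ * (x * n₀.1 * x⁻¹)) := by
          rw [← h4, mul_inv_cancel_left]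
        have h6 : x * n.1.1 = n.1.1 * (n₀.1 : G)⁻¹ * x * n₀.1 := by
          calc x * (n.1.1 : G) = (x * n.1.1 * x⁻¹) * x := by group
            _ = n.1.1 * ((n₀.1 : G)⁻¹ * (x * n₀.1 * x⁻¹)) * x := by rw [h5]
            _ = n.1.1 * (n₀.1 : G)⁻¹ * x * n₀.1 := by group
        calc (n.1.1 : G) * (n₀.1 : G)⁻¹ * x = (n.1.1 * (n₀.1 : G)⁻¹ * x * n₀.1) * (n₀.1 : G)⁻¹ := by group
          _ = x * n.1.1 * (n₀.1 : G)⁻¹ := by rw [← h6]
          _ = x * (n.1.1 * (n₀.1 : G)⁻¹) := by group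
      · intro a b hab
        have h4 : (a.1.1 : G) * (n₀.1 : G)⁻¹ = b.1.1 * (n₀.1 : G)⁻¹ :=
          congrArg (fun t : ↥(N ⊓ centralizer ({x} : Set G)) => (t : G)) hab
        exact Subtype.ext (Subtype.ext (Subtype.ext (mul_right_cancel h4)))
    have hfin : Finite (stabilizer N w₀) := inferInstance
    have := Fintype.ofFinite (stabilizer N w₀)
    have e : P ≃ Σ t : stabilizer N w₀, {n : P // φ n = t} := (Equiv.sigmaFiberEquiv φ).symm
    rw [Nat.card_congr e, Nat.card_sigma]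
    calc ∑ t : stabilizer N w₀, Nat.card {n : P // φ n = t}
        ≤ ∑ _t : stabilizer N w₀, Nat.card ↥(N ⊓ centralizer ({x} : Set G)) := Finset.sum_le_sum fun t _ => hfib t
      _ = Nat.card ↥(N ⊓ centralizer ({x} : Set G)) * Nat.card (stabilizer N w₀) := by
        rw [Finset.sum_const, Finset.card_univ, smul_eq_mul, mul_comm, Nat.card_eq_fintype_card (α := stabilizer N w₀)]
  have h3 : 0 < Nat.card (stabilizer N w₀) := Nat.card_pos
  rw [h1] at h2
  exact Nat.le_of_mul_le_mul_right h2 h3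

/-- **the counting rule** -/
theorem ruleCB [Finite G] [Fintype ι] (hN : N.Normal) {x : ι → G} (hc : Cov Ω x) (ω : Ω)
    (h : ∑ i, Nat.card ↥(N ⊓ centralizer ({x i} : Set G)) < Nat.card (orbit N ω)) : False := by
  classical
  have hfin : Finite (orbit N ω) := Set.finite_range _
  have h1 : Nat.card (orbit N ω) ≤ ∑ i, Nat.card {w : Ω // w ∈ orbit N ω ∧ x i • w = w} := by
    have h2 : ∀ i, Finite {w : Ω // w ∈ orbit N ω ∧ x i • w = w} := fun i =>
      Finite.of_injective (fun v => (⟨v.1, v.2.1⟩ : orbit N ω)) fun a b hab =>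
        Subtype.ext (congrArg (fun u : orbit N ω => (u : Ω)) hab)
    rw [← Nat.card_sigma]
    choose f hf using fun w : Ω => hc w
    refine Nat.card_le_card_of_injective
      (fun w : orbit N ω => (⟨f w.1, ⟨w.1, w.2, hf w.1⟩⟩ : Σ i, {w : Ω // w ∈ orbit N ω ∧ x i • w = w})) ?_
    intro a b hab
    have h3 : (a : Ω) = b := congrArg (fun q : Σ i, {w : Ω // w ∈ orbit N ω ∧ x i • w = w} => (q.2 : Ω)) hab
    exact Subtype.ext h3
  exact absurd (h1.trans (Finset.sum_le_sum fun i _ => card_fix_le (x i) ω (by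
    rw [normalizer_eq_top_iff.2 hN]; trivial))) (not_le.2 h)

/-- the orbits of `N` have at least `m` points if the proper subgroups have index at least `m` -/
theorem le_orbit [Finite G] (hE : Env G Ω N) {m : ℕ} (hm : ∀ H : Subgroup N, H ≠ ⊤ → m ≤ H.index) (ω : Ω) :
    m ≤ Nat.card (orbit N ω) := by
  have h1 : stabilizer N ω ≠ ⊤ := by
    intro h
    refine hE.nofix ω fun n hn => ?_
    have : (⟨n, hn⟩ : N) ∈ stabilizer N ω := by rw [h]; trivial
    exact this
  rw [Nat.card_congr (orbitEquivQuotientStabilizer N ω)]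
  exact hm _ h1

/-- **the pair rule**: a cover by two elements -/
theorem rulePair [Nonempty Ω] (hE : Env G Ω N) {x y : G} (hx1 : x ≠ 1) (hc : ∀ ω : Ω, x • ω = ω ∨ y • ω = ω)
    (h : x ∈ closure {z | ∃ c : G, c * x = x * c ∧ z = c * y * c⁻¹}) : False := by
  apply hx1
  refine hE.single fun ω => ?_
  by_contra hω
  apply hω
  have h1 : closure {z | ∃ c : G, c * x = x * c ∧ z = c * y * c⁻¹} ≤ stabilizer G ω := by
    rw [closure_le]
    rintro _ ⟨c, hcx, rfl⟩
    have h2 : x • c⁻¹ • ω ≠ c⁻¹ • ω := by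
      intro h3
      apply hω
      rw [smul_smul, ← (show c⁻¹ * x = x * c⁻¹ by
        rw [inv_mul_eq_iff_eq_mul, ← mul_assoc, hcx, mul_inv_cancel_right]), mul_smul] at h3
      exact smul_left_cancel _ h3
    have h3 := (hc (c⁻¹ • ω)).resolve_left h2
    change (c * y * c⁻¹) • ω = ω
    rw [mul_smul, mul_smul, h3, smul_inv_smul]
  exact h1 h

/-- **replacement** in a cover by two elements -/
theorem pair_mv {x y y' : G} (hc : ∀ ω : Ω, x • ω = ω ∨ y • ω = ω)
    (h : y' ∈ closure {z | ∃ c : G, c * x = x * c ∧ z = c * y * c⁻¹}) : ∀ ω : Ω, x • ω = ω ∨ y' • ω = ω := by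
  intro ω
  by_cases hω : x • ω = ω
  · exact Or.inl hω
  refine Or.inr ?_
  have h1 : closure {z | ∃ c : G, c * x = x * c ∧ z = c * y * c⁻¹} ≤ stabilizer G ω := by
    rw [closure_le]
    rintro _ ⟨c, hcx, rfl⟩
    have h2 : x • c⁻¹ • ω ≠ c⁻¹ • ω := by
      intro h3
      apply hω
      rw [smul_smul, ← (show c⁻¹ * x = x * c⁻¹ by
        rw [inv_mul_eq_iff_eq_mul, ← mul_assoc, hcx, mul_inv_cancel_right]), mul_smul] at h3
      exact smul_left_cancel _ h3
    have h3 := (hc (c⁻¹ • ω)).resolve_left h2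
    change (c * y * c⁻¹) • ω = ω
    rw [mul_smul, mul_smul, h3, smul_inv_smul]
  exact h1 h

end Rules

/-! ### Groups without outer automorphisms -/

section Inner

/-- `RC` for a group all of whose automorphisms are inner, in terms of `S`-sets -/
theorem noCov_of_inner {S : Type} [Group S] [Finite S] (hin : ∀ α : MulAut S, ∃ s, α = MulAut.conj s)
    (h : ∀ (Ω : Type) [Finite Ω] [Nonempty Ω] [MulAction S Ω], Env S Ω (⊤ : Subgroup S) →
      ∀ (ι : Type) [Finite ι] (x : ι → S) (r : ι → ℕ), PF x r → Cov Ω x → CovMin Ω x → False) : NoCov S := by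
  intro G _ _ Ω _ _ _ N hE e ι _ x r hx hc hm
  have hNn := hE.norm
  -- `N = G`
  have htop : N = ⊤ := by
    rw [eq_top_iff]
    intro g _
    let α : MulAut S := (MulAut.congr e) (MulAut.conjNormal g)
    obtain ⟨s, hs⟩ := hin α
    have h1 : MulAut.conjNormal g = MulAut.conj (e.symm s) := by
      apply (MulAut.congr e).injective
      rw [show MulAut.congr e (MulAut.conjNormal g) = α from rfl, hs]
      ext t
      simp [MulAut.congr]
    have h2 : ((e.symm s : N) : G)⁻¹ * g ∈ centralizer (N : Set G) := by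
      rw [mem_centralizer_iff]
      intro n hn
      have h3 : g * n * g⁻¹ = (e.symm s : N) * n * ((e.symm s : N) : G)⁻¹ := by
        have := congrArg (fun β : MulAut N => ((β ⟨n, hn⟩ : N) : G)) h1
        simpa [MulAut.conjNormal_apply] using this
      calc n * (((e.symm s : N) : G)⁻¹ * g) = ((e.symm s : N) : G)⁻¹ * (((e.symm s : N) : G) * n *
          ((e.symm s : N) : G)⁻¹) * g := by group
        _ = ((e.symm s : N) : G)⁻¹ * (g * n * g⁻¹) * g := by rw [h3]
        _ = ((e.symm s : N) : G)⁻¹ * g * n := by group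
    rw [hE.cent, mem_bot, inv_mul_eq_one] at h2
    rw [← h2]
    exact (e.symm s).2
  subst htop
  let φ : S ≃* G := e.symm.trans Subgroup.topEquiv
  let _ : MulAction S Ω := MulAction.compHom Ω φ.toMonoidHom
  have hsm : ∀ (s : S) (ω : Ω), s • ω = φ s • ω := fun s ω => rfl
  have hE' : Env S Ω (⊤ : Subgroup S) :=
    { norm := inferInstance
      simple := isSimple_cgr0 (e.trans Subgroup.topEquiv.symm) hE.simple
      ncomm := fun hcom => hE.ncomm ⟨⟨fun a b => by
        have h1 : (⟨e a, trivial⟩ : (⊤ : Subgroup S)) * ⟨e b, trivial⟩ = ⟨e b, trivial⟩ * ⟨e a, trivial⟩ :=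
          hcom.is_comm.comm _ _
        have h2 : e a * e b = e b * e a := congrArg Subtype.val h1
        rw [← map_mul, ← map_mul] at h2
        exact e.injective h2⟩⟩
      cent := by
        rw [eq_bot_iff]
        intro s hs
        have h1 : φ s ∈ centralizer (((⊤ : Subgroup G) : Set G)) := by
          rw [mem_centralizer_iff]
          intro g _
          obtain ⟨t, rfl⟩ := φ.surjective g
          rw [← map_mul, ← map_mul, (mem_centralizer_iff.1 hs t trivial)]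
        rw [hE.cent, mem_bot] at h1
        rw [mem_bot]
        exact φ.injective (by rw [h1, map_one])
      nofix := fun ω hω => hE.nofix ω fun g _ => by
        obtain ⟨t, rfl⟩ := φ.surjective g
        exact hω (show t ∈ (⊤ : Subgroup S) from trivial) }
  refine h Ω hE' ι (fun i => φ.symm (x i)) r ⟨hx.prime, hx.inj, fun i => ?_, fun i h1 => hx.ne i ?_, fun i j => ?_⟩
    (fun ω => ?_) (fun i => ?_)
  · rw [← map_pow, hx.pow, map_one]
  · exact φ.symm.injective (by rw [h1, map_one])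
  · rw [← map_mul, ← map_mul, hx.comm]
  · obtain ⟨i, hi⟩ := hc ω
    exact ⟨i, by rw [hsm, MulEquiv.apply_symm_apply]; exact hi⟩
  · obtain ⟨ω, h1, h2⟩ := hm i
    exact ⟨ω, by rw [hsm, MulEquiv.apply_symm_apply]; exact h1, fun j hj h3 => h2 j hj (by
      rwa [hsm, MulEquiv.apply_symm_apply] at h3)⟩

end Inner

end Cfsg.Agent.H867.RC
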